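import Mathlib

/-! An element lying in all powers of a finitely generated ideal below a minimal prime over it is zero. -/

set_option autoImplicit false

universe u

namespace Groth.Agent.ValPowLib

theorem eq_zero_of_forall_mem_pow {A : Type u} [CommRing A] [IsDomain A] {a : A} {P J : Ideal A}
    (hP : P ∈ (Ideal.span {a}).minimalPrimes) (hJ : J.FG) (hJP : J ≤ P) (ha : ∀ n : ℕ, a ∈ J ^ n) : a = 0 := by
  classical
  by_contra ha0
  haveI := hP.1.1
  let K := FractionRing A
  let φ : A →+* K := algebraMap A K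
  have hφ : Function.Injective φ := IsFractionRing.injective A K
  let e : A ≃+* φ.range := RingEquiv.ofBijective φ.rangeRestrict
    ⟨fun x y h => hφ (congrArg Subtype.val h), φ.rangeRestrict_surjective⟩
  haveI : (P.map (e : A →+* φ.range)).IsPrime := Ideal.map_isPrime_of_equiv e
  obtain ⟨V, hPV⟩ := (LocalSubring.ofPrime φ.range (P.map (e : A →+* φ.range))).exists_le_valuationSubring
  have hAV : φ.range ≤ V.toSubring := (LocalSubring.le_ofPrime ..).trans hPV.1
  let ψ : A →+* V := φ.codRestrict V.toSubring fun x => hAV ⟨x, rfl⟩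
  have hcomap : (IsLocalRing.maximalIdeal V).comap ψ = P := by
    ext x
    have hx : x ∈ P ↔ e x ∈ P.map (e : A →+* φ.range) := (Ideal.apply_mem_of_equiv_iff (f := e)).symm
    rw [hx, ← IsLocalization.AtPrime.to_map_mem_maximal_iff (LocalSubring.ofPrime φ.range (P.map (e : A →+* φ.range))).toSubring
      (P.map (e : A →+* φ.range))]
    simp only [Ideal.mem_comap, IsLocalRing.mem_maximalIdeal, mem_nonunits_iff]
    haveI := hPV.2
    rw [← isUnit_map_iff (Subring.inclusion hPV.1)]
    rfl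
  obtain ⟨s, hs⟩ := hJ
  have hV0 : ψ a ≠ 0 := fun h => ha0 (hφ ((congrArg Subtype.val h).trans (map_zero φ).symm))
  have hne : s.Nonempty := by
    rw [Finset.nonempty_iff_ne_empty]
    rintro rfl
    refine ha0 ?_
    have := ha 1
    rw [pow_one, ← hs] at this
    simpa using this
  obtain ⟨g, hg, hgdvd⟩ : ∃ g ∈ s, ∀ x ∈ s, ψ g ∣ ψ x := by
    clear hs
    induction hne using Finset.Nonempty.cons_induction with
    | singleton x => exact ⟨x, Finset.mem_singleton_self x, fun y hy => by rw [Finset.mem_singleton.mp hy]⟩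
    | cons x t hxt _ ih =>
      obtain ⟨g, hg, hgdvd⟩ := ih
      obtain h | h := ValuationRing.dvd_total (ψ g) (ψ x)
      · refine ⟨g, Finset.mem_cons_of_mem hg, fun y hy => ?_⟩
        obtain rfl | hy := Finset.mem_cons.mp hy
        exacts [h, hgdvd y hy]
      · refine ⟨x, Finset.mem_cons_self x t, fun y hy => ?_⟩
        obtain rfl | hy := Finset.mem_cons.mp hy
        exacts [dvd_rfl, h.trans (hgdvd y hy)]
  have hJle : J.map ψ ≤ Ideal.span {ψ g} := by
    rw [← hs, Ideal.map_span, Ideal.span_le]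
    rintro _ ⟨x, hx, rfl⟩
    exact Ideal.mem_span_singleton.mpr (hgdvd x hx)
  have hgP : g ∈ P := hJP (hs ▸ Ideal.subset_span hg)
  obtain ⟨N, t, htP, hdiv⟩ : ∃ (N : ℕ) (t : A), t ∉ P ∧ t * g ^ N ∈ Ideal.span {a} := by
    by_contra hcon
    push Not at hcon
    let M : Submonoid A :=
      { carrier := {x | ∃ (N : ℕ) (t : A), t ∉ P ∧ x = t * g ^ N}
        one_mem' := ⟨0, 1, (Ideal.ne_top_iff_one P).mp (Ideal.IsPrime.ne_top inferInstance), by simp⟩
        mul_mem' := by
          rintro _ _ ⟨N, t, ht, rfl⟩ ⟨N', t', ht', rfl⟩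
          exact ⟨N + N', t * t', fun h => (Ideal.IsPrime.mem_or_mem inferInstance h).elim ht ht', by ring⟩ }
    have hd : Disjoint ((Ideal.span {a} : Ideal A) : Set A) (M : Set A) :=
      Set.disjoint_right.mpr fun x ⟨N, t, ht, hx⟩ hxa => hcon N t ht (hx ▸ hxa)
    obtain ⟨Q, hQ, hle, hQd⟩ := Ideal.exists_le_prime_disjoint _ M hd
    have hQP : Q ≤ P := fun x hx => by
      by_contra hxP
      exact Set.disjoint_left.mp hQd hx ⟨0, x, hxP, by simp⟩
    have := hP.2 ⟨hQ, hle⟩ hQP hgP
    exact Set.disjoint_left.mp hQd this ⟨1, 1, (Ideal.ne_top_iff_one P).mp (Ideal.IsPrime.ne_top inferInstance), by simp⟩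
  have htu : IsUnit (ψ t) := by
    by_contra h
    exact htP (hcomap ▸ (IsLocalRing.mem_maximalIdeal _).mpr h : t ∈ P)
  obtain ⟨c, hc⟩ := Ideal.mem_span_singleton.mp hdiv
  have h1 : ψ a ∣ ψ g ^ N := by
    have : ψ t * ψ g ^ N = ψ a * ψ c := by rw [← map_pow, ← map_mul, ← map_mul, hc]
    exact (htu.dvd_mul_left).mp ⟨ψ c, this⟩
  have h2 : ψ g ^ (N + 1) ∣ ψ a := by
    have := Ideal.mem_map_of_mem ψ (ha (N + 1))
    rw [Ideal.map_pow] at this
    have := Ideal.pow_right_mono hJle (N + 1) this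
    rwa [Ideal.span_singleton_pow, Ideal.mem_span_singleton] at this
  have hg0 : ψ g ≠ 0 := fun h => hV0 (by rw [h] at h2; simpa using h2)
  have hgu : IsUnit (ψ g) := by
    obtain ⟨d, hd⟩ := h2.trans h1
    refine isUnit_iff_exists_inv.mpr ⟨d, mul_left_cancel₀ (pow_ne_zero N hg0) ?_⟩
    rw [mul_one, ← mul_assoc, ← pow_succ, ← hd]
  have := hcomap ▸ hgP
  exact (IsLocalRing.mem_maximalIdeal _).mp this hgu

end Groth.Agent.ValPowLib
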